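import Cfsg.Agent.H409.S8.JTwoDeg
import Cfsg.Agent.H858.S8.J3Solv
import Cfsg.Agent.H497.S8.SolvTwo
import Cfsg.Agent.H681.SimpleChar

/-!
# S4908: the row SOLV for `J₂` (helper91)

* `sup` : a superset of the degrees of `J₂` (from helper409's column of order 7);
* `solv` : no solvable group has the degrees of `J₂` or of `Aut J₂`.
-/

set_option autoImplicit false
set_option maxRecDepth 100000

namespace Cfsg.Agent.H91.S8.JTwo

open Cfsg Cfsg.Agent.H409.S8.JTwo
open Cfsg.Agent.SporadicA.J2Hundred (G card_G)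

universe u v

/-- the five degrees -/
def F5 : Fin 5 → ℕ := ![1, 36, 90, 160, 225]

/-- a further character in the column of order 7 -/
theorem other {χ : IrrCharacter G} (h : ∀ i : Fin 5, charDegree (χ : G → ℂ) ≠ F5 i)
    (hm : charDegree (χ : G → ℂ) % 7 ≠ 0) :
    ∃ ω : IrrCharacter G, (charDegree (χ : G → ℂ) % 7 = 1 ∧ charDegree (ω : G → ℂ) = charDegree (χ : G → ℂ) + 12) ∨
      (charDegree (χ : G → ℂ) % 7 = 6 ∧ charDegree (χ : G → ℂ) = charDegree (ω : G → ℂ) + 12) ∨
      charDegree (χ : G → ℂ) + charDegree (ω : G → ℂ) = 12 := by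
  classical
  have := Characters.Core.finite_irr (G := G)
  have := Fintype.ofFinite (IrrCharacter G)
  obtain ⟨c, h7, hs, h0⟩ := col
  obtain ⟨t, ht⟩ := five
  have hinj : Function.Injective t := by
    intro i j hij
    have h1 := ht i
    rw [hij, ht j] at h1
    revert h1
    fin_cases i <;> fin_cases j <;> simp
  have hc : ∀ i, c (t i) = (![1, 1, -1, -1, 1] : Fin 5 → ℤ) i := by
    intro i
    have h1 := h7 (t i)
    have h2 := sixth h7 hs (t i)
    rw [ht i] at h1
    fin_cases i <;> simp at h1 h2 ⊢ <;> omega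
  have hcχ : c χ = 1 ∧ charDegree (χ : G → ℂ) % 7 = 1 ∨ c χ = -1 ∧ charDegree (χ : G → ℂ) % 7 = 6 := by
    have h1 := h7 χ
    have h2 := sixth h7 hs χ
    rcases h2 with h2 | h2 | h2
    · exfalso
      rw [h2] at h1
      omega
    · left
      rw [h2] at h1
      omega
    · right
      rw [h2] at h1
      omega
  have hsq : c χ * c χ = 1 := by
    rcases hcχ with ⟨h1, -⟩ | ⟨h1, -⟩ <;> rw [h1] <;> norm_num
  have hmem : χ ∉ Finset.univ.image t := by
    intro h1
    obtain ⟨i, -, hi⟩ := Finset.mem_image.1 h1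
    have h2 := ht i
    rw [hi] at h2
    exact h i h2
  obtain ⟨s, hsdef⟩ : ∃ s, s = insert χ (Finset.univ.image t) := ⟨_, rfl⟩
  have e1 : ∑ ψ ∈ s, c ψ * c ψ = 6 := by
    rw [hsdef, Finset.sum_insert hmem, Finset.sum_image fun i _ j _ h => hinj h]
    simp only [hc, hsq]
    simp [Fin.sum_univ_succ]
  have e2 : ∑ ψ ∈ s, (charDegree (ψ : G → ℂ) : ℤ) * c ψ = (charDegree (χ : G → ℂ) : ℤ) * c χ + 12 := by
    rw [hsdef, Finset.sum_insert hmem, Finset.sum_image fun i _ j _ h => hinj h]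
    simp only [hc, ht]
    simp [Fin.sum_univ_succ]
  have f1 : ∑ ψ ∈ sᶜ, c ψ * c ψ = 1 := by
    have := Finset.sum_add_sum_compl s (fun ψ => c ψ * c ψ)
    rw [e1, hs] at this
    linarith
  have f2 : ∑ ψ ∈ sᶜ, (charDegree (ψ : G → ℂ) : ℤ) * c ψ = -((charDegree (χ : G → ℂ) : ℤ) * c χ + 12) := by
    have := Finset.sum_add_sum_compl s (fun ψ : IrrCharacter G => (charDegree (ψ : G → ℂ) : ℤ) * c ψ)
    rw [e2, h0] at this
    linarith
  obtain ⟨ω, hω, hω0⟩ := Finset.exists_ne_zero_of_sum_ne_zero (by rw [f1]; norm_num : ∑ ψ ∈ sᶜ, c ψ * c ψ ≠ 0)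
  have hω1 : c ω ≠ 0 := fun h => hω0 (by rw [h]; rfl)
  have hoth : ∀ ψ ∈ sᶜ, ψ ≠ ω → c ψ = 0 := by
    intro ψ hψ hne
    by_contra h1
    have h2 : c ω * c ω + c ψ * c ψ ≤ 1 := by
      rw [← f1, ← Finset.sum_pair hne.symm (f := fun ψ => c ψ * c ψ)]
      refine Finset.sum_le_sum_of_subset_of_nonneg ?_ fun ψ _ _ => mul_self_nonneg _
      intro a ha
      rcases Finset.mem_insert.1 ha with rfl | ha
      · exact hω
      · rw [Finset.mem_singleton.1 ha]; exact hψ
    have h3 := mul_self_pos.2 h1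
    have h4 := mul_self_pos.2 hω1
    linarith
  have g2 : (charDegree (ω : G → ℂ) : ℤ) * c ω = -((charDegree (χ : G → ℂ) : ℤ) * c χ + 12) := by
    rw [← f2]
    symm
    apply Finset.sum_eq_single_of_mem ω hω
    intro ψ hψ hne
    rw [hoth ψ hψ hne, mul_zero]
  refine ⟨ω, ?_⟩
  rcases sixth h7 hs ω with h2 | h2 | h2
  · exact absurd h2 hω1
  · rw [h2] at g2
    rcases hcχ with ⟨h3, h4⟩ | ⟨h3, h4⟩ <;> rw [h3] at g2 <;> omega
  · rw [h2] at g2
    rcases hcχ with ⟨h3, h4⟩ | ⟨h3, h4⟩ <;> rw [h3] at g2 <;> omega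

/-- a superset of the degrees of `J₂` -/
def A1 : List ℕ := [1, 14, 21, 28, 35, 36, 42, 48, 56, 63, 70, 84, 90, 105, 112, 126, 140, 160, 168, 175, 189, 210, 224,
  225, 252, 280, 288, 300, 315, 336, 350, 378, 420, 448, 504, 525, 560, 630, 672, 700, 756]

/-- a superset of the degrees of `Aut J₂` -/
def A2 : List ℕ := A1 ++ (A1.filter (fun d => d != 1)).map (fun d => 2 * d)

/-- the test -/
def T (d : ℕ) : Bool := 604800 % d != 0 || ((d != 1) && Nat.blt d 14) || A1.contains d ||
  !([0, 1, 6].contains (d % 7)) || (d != 1 && d != 36 && d != 90 && d != 160 && d != 225 && (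
    (d % 7 == 1 && (604800 % (d + 12) != 0 || d + 12 == 27)) ||
    (d % 7 == 6 && (604800 % (d - 12) != 0 || (Nat.blt (d - 12) 14 && d != 13)))) || d == 27)

theorem chkT : (List.range 778).all T = true := by decide +kernel

/-- **The superset.** -/
theorem sup {d : ℕ} (hd : d ∈ charDegrees G) : d ∈ A1 := by
  have h14 : d ≠ 1 → 14 ≤ d := fourteen_le hd
  have hlt : d < 778 := by
    have h1 := H424.DegTools.sq_le hd (⊥ : Subgroup G) bot_le
    rw [Subgroup.index_bot, card_G] at h1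
    by_contra hcon
    push Not at hcon
    nlinarith
  have hall := (List.all_eq_true.1 chkT) d (List.mem_range.2 hlt)
  obtain ⟨χ, rfl⟩ := hd
  have hdv := dvd_card χ
  have hm := mod_seven χ
  have h27 : charDegree (χ : G → ℂ) ≠ 27 := ne_27
  have key : ∀ ω : IrrCharacter G, charDegree (ω : G → ℂ) ∣ 604800 ∧ charDegree (ω : G → ℂ) ≠ 27 ∧
      (charDegree (ω : G → ℂ) ≠ 1 → 14 ≤ charDegree (ω : G → ℂ)) := fun ω =>
    ⟨dvd_card ω, ne_27, fourteen_le ⟨ω, rfl⟩⟩
  have hoth := fun (h : ∀ i : Fin 5, charDegree (χ : G → ℂ) ≠ F5 i) h0 => other (χ := χ) h h0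
  generalize hD : charDegree (χ : G → ℂ) = d at *
  by_contra hA
  unfold T at hall
  simp only [Bool.or_eq_true, Bool.and_eq_true, bne_iff_ne, beq_iff_eq, List.contains_iff_mem, Bool.not_eq_true',
    ne_eq] at hall
  rcases hall with (((h | ⟨h, h'⟩) | h) | h) | (⟨⟨⟨⟨⟨h1, h2⟩, h3⟩, h4⟩, h5⟩, h6⟩ | h)
  · exact h (Nat.mod_eq_zero_of_dvd hdv)
  · have := h14 h
    have h2 : d < 14 := Nat.le_of_ble_eq_true h'
    omega
  · exact hA h
  · rcases hm with h1 | h1 | h1 <;> rw [h1] at h <;> simp at h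
  · have hF : ∀ i : Fin 5, d ≠ F5 i := by
      intro i
      fin_cases i
      exacts [h1, h2, h3, h4, h5]
    have h0 : d % 7 ≠ 0 := by
      rcases h6 with ⟨h6, -⟩ | ⟨h6, -⟩ <;> omega
    obtain ⟨ω, hω⟩ := hoth hF h0
    obtain ⟨k1, k2, k3⟩ := key ω
    have h14' := h14 h1
    rcases hω with ⟨q1, q2⟩ | ⟨q1, q2⟩ | q
    · rw [q2] at k1 k2 k3
      rcases h6 with ⟨h6, h7⟩ | ⟨h6, h7⟩
      · rcases h7 with h7 | h7
        · exact h7 (Nat.mod_eq_zero_of_dvd k1)
        · exact k2 h7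
      · omega
    · have q3 : d - 12 = charDegree (ω : G → ℂ) := by omega
      rcases h6 with ⟨h6, h7⟩ | ⟨h6, h7⟩
      · omega
      · rcases h7 with h7 | ⟨h7, h8⟩
        · rw [q3] at h7
          exact h7 (Nat.mod_eq_zero_of_dvd k1)
        · rw [q3] at h7
          have h9 : charDegree (ω : G → ℂ) < 14 := Nat.le_of_ble_eq_true h7
          have h10 : charDegree (ω : G → ℂ) ≠ 1 := by omega
          have := k3 h10
          omega
    · omega
  · exact h27 h

theorem check1 : H497.S8.chk2 1554 [2, 3, 5, 7] A1 [[36], [90], [160], [225]] = true := by decide +kernel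

theorem check2 : H497.S8.chk2 1554 [2, 3, 5, 7] A2 [[36, 72], [90, 180], [160, 320], [225, 450]] = true := by
  decide +kernel

theorem primes : ∀ p ∈ [2, 3, 5, 7], p.Prime := by
  intro p hp
  simp only [List.mem_cons, List.not_mem_nil, or_false] at hp
  rcases hp with rfl | rfl | rfl | rfl <;> norm_num

variable {X : Type v} [Group X]

/-- the degrees of `J₂` are those of the group on 100 points -/
theorem cd_eq (hX : Spor.IsoJ2 X) : charDegrees X = charDegrees G := by
  obtain ⟨e⟩ := hX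
  obtain ⟨f⟩ := Cfsg.Agent.J2.HundredGens.J2_iso Cfsg.Agent.S1619.result.2.2.2
  exact H424.DegTools.charDegrees_congr (e.trans f)

theorem mem_four (hX : Spor.IsoJ2 X) : ∀ n ∈ [36, 90, 160, 225], n ∈ charDegrees X := by
  obtain ⟨t, ht⟩ := five
  rw [cd_eq hX]
  intro n hn
  simp only [List.mem_cons, List.not_mem_nil, or_false] at hn
  rcases hn with rfl | rfl | rfl | rfl
  · exact ⟨t 1, ht 1⟩
  · exact ⟨t 2, ht 2⟩
  · exact ⟨t 3, ht 3⟩
  · exact ⟨t 4, ht 4⟩

/-- **SOLV for `J₂`.** -/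
theorem solv (hX : Spor.IsoJ2 X) (D : Set ℕ) (hD : H704.S8.Deg 2 X D) : H704.S8.Solv.{u} D := by
  have hcard : Nat.card X = 604800 := by
    obtain ⟨e⟩ := hX
    obtain ⟨f⟩ := Cfsg.Agent.J2.HundredGens.J2_iso Cfsg.Agent.S1619.result.2.2.2
    rw [Nat.card_congr (e.trans f).toEquiv]
    exact card_G
  have hfin : Finite X := Nat.finite_of_card_ne_zero (by rw [hcard]; norm_num)
  have hspor : IsSporadicGroup X := by simp only [IsSporadicGroup, hX, true_or, or_true]
  have hsimple : IsSimpleGroup X := by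
    obtain ⟨e⟩ := hX
    obtain ⟨f⟩ := Cfsg.Agent.J2.HundredGens.J2_iso Cfsg.Agent.S1619.result.2.2.2
    have := Cfsg.Agent.SporadicA.J2Hundred.simple
    exact (e.trans f).isSimpleGroup
  have hna : ¬ IsMulCommutative X := by
    intro hc
    have h1 := (Group.is_simple_iff_prime_card (α := X)).1 hsimple
    rw [hcard] at h1
    norm_num at h1
  have hcen : Subgroup.center X = ⊥ := by
    have hn : (Subgroup.center X).Normal := inferInstance
    rcases hn.eq_bot_or_eq_top with h1 | h1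
    · exact h1
    · exfalso
      exact hna ⟨⟨fun a b => ((Subgroup.mem_center_iff.1 (by rw [h1]; trivial : b ∈ Subgroup.center X)) a)⟩⟩
  have hout : (MulAut.conj : X →* MulAut X).range.index ≤ 2 := Cfsg.Agent.H489.card_out_sporadic hspor
  have h4 := mem_four hX
  have hsub : ∀ d ∈ charDegrees X, d ∈ A1 := fun d hd => sup (by rwa [← cd_eq hX])
  rcases hD with rfl | ⟨-, rfl⟩
  · have hK : ∀ l ∈ [[36], [90], [160], [225]], ∃ n ∈ l, n ∈ charDegrees X := by
      intro l hl
      simp only [List.mem_cons, List.not_mem_nil, or_false] at hl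
      rcases hl with rfl | rfl | rfl | rfl
      · exact ⟨36, by simp, h4 _ (by simp)⟩
      · exact ⟨90, by simp, h4 _ (by simp)⟩
      · exact ⟨160, by simp, h4 _ (by simp)⟩
      · exact ⟨225, by simp, h4 _ (by simp)⟩
    intro Y _ _ hs hY
    exact H497.S8.solv_of_chk2 1554 [2, 3, 5, 7] A1 [[36], [90], [160], [225]] primes hsub hK check1 hs hY
  · have hA : ∀ d ∈ charDegrees (MulAut X), d ∈ A2 := by
      intro d hd
      unfold A2
      rw [List.mem_append]
      rcases H858.S8.deg_aut_le_two hcen hout hd with h1 | ⟨χ, χ', f, hne, h1, h2, rfl⟩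
      · exact Or.inl (hsub d h1)
      · right
        rw [List.mem_map]
        refine ⟨f, List.mem_filter.2 ⟨hsub f ?_, ?_⟩, rfl⟩
        · exact ⟨χ, by
            have h3 := Cfsg.Agent.M23Order.Base.dg_eq χ
            rw [h1] at h3
            exact_mod_cast h3.symm⟩
        · rw [bne_iff_ne]
          rintro rfl
          have hna' : ¬ ∀ a b : X, a * b = b * a := fun h => hna ⟨⟨h⟩⟩
          have e1 := H681.SimpleChar.eq_one_of_degree_one hna' χ.2 (by rw [h1]; norm_num)
          have e2 := H681.SimpleChar.eq_one_of_degree_one hna' χ'.2 (by rw [h2]; norm_num)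
          exact hne (Subtype.ext (e1.trans e2.symm))
    have hK : ∀ l ∈ [[36, 72], [90, 180], [160, 320], [225, 450]], ∃ n ∈ l, n ∈ charDegrees (MulAut X) := by
      have key : ∀ n ∈ [36, 90, 160, 225], ∃ k ∈ [n, 2 * n], k ∈ charDegrees (MulAut X) := by
        intro n hn
        rcases H858.S8.mem_aut_or hcen hout (h4 n hn) with h1 | h1
        · exact ⟨n, by simp, h1⟩
        · exact ⟨2 * n, by simp, h1⟩
      intro l hl
      simp only [List.mem_cons, List.not_mem_nil, or_false] at hl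
      rcases hl with rfl | rfl | rfl | rfl
      · exact key 36 (by simp)
      · exact key 90 (by simp)
      · exact key 160 (by simp)
      · exact key 225 (by simp)
    intro Y _ _ hs hY
    exact H497.S8.solv_of_chk2 1554 [2, 3, 5, 7] A2 [[36, 72], [90, 180], [160, 320], [225, 450]] primes hA hK check2 hs hY

end Cfsg.Agent.H91.S8.JTwo
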